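import Mathlib.AlgebraicGeometry.Morphisms.Flat
import Mathlib.AlgebraicGeometry.Morphisms.ClosedImmersion
import Mathlib.Algebra.MonoidAlgebra.MapDomain
import Mathlib.RingTheory.Flat.FaithfullyFlat.Basic
import Mathlib.RingTheory.RingHom.FaithfullyFlat
import Mathlib.GroupTheory.QuotientGroup.Basic

/-!
# Properties of the morphism of group algebras given by a homomorphism of groups
-/

set_option autoImplicit false
universe u

open CategoryTheory AlgebraicGeometry

set_option backward.isDefEq.respectTransparency.types false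

noncomputable section

namespace Groth.L25.HomLocus

variable {M N : Type} [CommGroup M] [CommGroup N] (R : Type u) [CommRing R] (φ : N →* M)

/-- the map of group algebras -/
abbrev dmap : MonoidAlgebra R N →+* MonoidAlgebra R M := MonoidAlgebra.mapDomainRingHom R φ

/-- the morphism of their spectra -/
abbrev dSpec : Spec (CommRingCat.of (MonoidAlgebra R M)) ⟶ Spec (CommRingCat.of (MonoidAlgebra R N)) :=
  Spec.map (CommRingCat.ofHom (dmap R φ))

/-- the algebra of a group is free over the algebra of a subgroup -/
theorem faithfullyFlat_dmap (hφ : Function.Injective φ) : (dmap R φ).FaithfullyFlat := by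
  classical
  let C := MonoidAlgebra R N
  let D := MonoidAlgebra R M
  let F : C →+* D := dmap R φ
  let : Algebra C D := F.toAlgebra
  show Module.FaithfullyFlat C D
  let rep : M ⧸ φ.range → M := Quotient.out
  have hrep : ∀ c, (QuotientGroup.mk (rep c) : M ⧸ φ.range) = c := fun c => Quotient.out_eq c
  have hz : ∀ m : M, ∃ z : N, φ z * rep (QuotientGroup.mk m) = m := fun m => by
    have h := (QuotientGroup.eq (s := φ.range)).1 (hrep (QuotientGroup.mk m))
    obtain ⟨z, hz⟩ := h
    refine ⟨z, ?_⟩
    rw [hz, mul_comm (rep _)⁻¹, inv_mul_cancel_right]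
  choose z₀ hz₀ using hz
  let Φ : (M ⧸ φ.range →₀ C) →ₗ[C] D :=
    Finsupp.linearCombination C fun c => (MonoidAlgebra.single (rep c) 1 : D)
  have hΦ : ∀ (c : M ⧸ φ.range) (z : N) (r : R),
      Φ (Finsupp.single c (MonoidAlgebra.single z r)) = MonoidAlgebra.single (φ z * rep c) r := by
    intro c z r
    rw [Finsupp.linearCombination_single, Algebra.smul_def]
    show F _ * _ = _
    rw [show F (MonoidAlgebra.single z r) = _ from MonoidAlgebra.mapDomain_single,
      MonoidAlgebra.single_mul_single, _root_.mul_one]
  let Ψ : D →+ (M ⧸ φ.range →₀ C) :=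
    (Finsupp.liftAddHom fun m : M =>
      (Finsupp.singleAddHom (QuotientGroup.mk m : M ⧸ φ.range)).comp
        (MonoidAlgebra.singleAddHom (z₀ m))).comp (MonoidAlgebra.coeffAddEquiv).toAddMonoidHom
  have hΨ : ∀ (m : M) (r : R), Ψ (MonoidAlgebra.single m r) =
      Finsupp.single (QuotientGroup.mk m : M ⧸ φ.range) (MonoidAlgebra.single (z₀ m) r) := by
    intro m r
    show Finsupp.liftAddHom _ (Finsupp.single m r) = _
    simp
  have h1 : ∀ x, Φ (Ψ x) = x := by
    intro x
    induction x using MonoidAlgebra.induction_linear with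
    | zero => simp
    | add x y hx hy => rw [map_add, map_add, hx, hy]
    | single m r => rw [hΨ, hΦ, hz₀]
  have h2 : ∀ x, Ψ (Φ x) = x := by
    intro x
    induction x using Finsupp.induction_linear with
    | zero => simp
    | add x y hx hy => rw [map_add, map_add, hx, hy]
    | single c y =>
      induction y using MonoidAlgebra.induction_linear with
      | zero => simp
      | add x y hx hy => rw [Finsupp.single_add, map_add, map_add, hx, hy]
      | single z r =>
        rw [hΦ, hΨ]
        have e : (QuotientGroup.mk (φ z * rep c) : M ⧸ φ.range) = c := by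
          rw [QuotientGroup.mk_mul, hrep, (QuotientGroup.eq_one_iff (N := φ.range) (φ z)).2 ⟨z, rfl⟩, _root_.one_mul]
        have e2 : z₀ (φ z * rep c) = z := hφ (mul_right_cancel (b := rep c) (by
          have := hz₀ (φ z * rep c)
          rwa [e] at this))
        rw [e, e2]
  let E : (M ⧸ φ.range →₀ C) ≃ₗ[C] D := LinearEquiv.ofBijective Φ
    ⟨Function.LeftInverse.injective h2, Function.RightInverse.surjective h1⟩
  exact Module.FaithfullyFlat.of_linearEquiv _ _ E.symm

theorem flat_surjective_dSpec (hφ : Function.Injective φ) : Flat (dSpec R φ) ∧ Surjective (dSpec R φ) :=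
  (flat_and_surjective_SpecMap_iff (CommRingCat.ofHom (dmap R φ))).2 (faithfullyFlat_dmap R φ hφ)

theorem injective_of_flat_surjective [Nontrivial R] (h1 : Flat (dSpec R φ)) (h2 : Surjective (dSpec R φ)) :
    Function.Injective φ := by
  intro a b hab
  have hi := RingHom.FaithfullyFlat.injective
    ((flat_and_surjective_SpecMap_iff (CommRingCat.ofHom (dmap R φ))).1 ⟨h1, h2⟩)
  have := @hi (MonoidAlgebra.single a 1) (MonoidAlgebra.single b 1) (by
    show MonoidAlgebra.mapDomain φ _ = MonoidAlgebra.mapDomain φ _
    rw [MonoidAlgebra.mapDomain_single, MonoidAlgebra.mapDomain_single, hab])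
  exact MonoidAlgebra.of_injective (R := R) this

theorem mono_dSpec (hφ : Function.Surjective φ) : Mono (dSpec R φ) := by
  have : IsClosedImmersion (dSpec R φ) := IsClosedImmersion.spec_of_surjective _ (by
    intro x
    induction x using MonoidAlgebra.induction_linear with
    | zero => exact ⟨0, map_zero _⟩
    | add x y hx hy =>
      obtain ⟨a, rfl⟩ := hx
      obtain ⟨b, rfl⟩ := hy
      exact ⟨a + b, map_add _ _ _⟩
    | single m r =>
      obtain ⟨n, rfl⟩ := hφ m
      exact ⟨MonoidAlgebra.single n r, MonoidAlgebra.mapDomain_single⟩)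
  infer_instance

theorem surjective_of_mono [Nontrivial R] (h : Mono (dSpec R φ)) : Function.Surjective φ := by
  let q : M →* M ⧸ φ.range := QuotientGroup.mk' _
  have he : q.comp φ = (1 : M →* M ⧸ φ.range).comp φ :=
    MonoidHom.ext fun n => (QuotientGroup.eq_one_iff _).2 ⟨n, rfl⟩
  have h1 : Spec.map (CommRingCat.ofHom (dmap R q)) ≫ dSpec R φ =
      Spec.map (CommRingCat.ofHom (dmap R (1 : M →* M ⧸ φ.range))) ≫ dSpec R φ := by
    rw [← Spec.map_comp, ← Spec.map_comp, ← CommRingCat.ofHom_comp, ← CommRingCat.ofHom_comp,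
      ← MonoidAlgebra.mapDomainRingHom_comp, ← MonoidAlgebra.mapDomainRingHom_comp, he]
  have h2 := congrArg (fun f => f.hom) (Spec.map_injective ((cancel_mono (dSpec R φ)).1 h1))
  intro m
  have h3 := DFunLike.congr_fun h2 (MonoidAlgebra.single m 1)
  simp only [CommRingCat.hom_ofHom, dmap] at h3
  change MonoidAlgebra.mapDomain q _ = MonoidAlgebra.mapDomain (1 : M →* M ⧸ φ.range) _ at h3
  rw [MonoidAlgebra.mapDomain_single, MonoidAlgebra.mapDomain_single] at h3
  exact (QuotientGroup.eq_one_iff _).1 (MonoidAlgebra.of_injective (R := R) h3)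

theorem isIso_dSpec (hφ : Function.Bijective φ) : IsIso (dSpec R φ) := by
  have : IsIso (CommRingCat.ofHom (dmap R φ)) := by
    rw [ConcreteCategory.isIso_iff_bijective]
    refine ⟨MonoidAlgebra.mapDomain_injective hφ.1, ?_⟩
    intro x
    induction x using MonoidAlgebra.induction_linear with
    | zero => exact ⟨0, map_zero _⟩
    | add x y hx hy =>
      obtain ⟨a, rfl⟩ := hx
      obtain ⟨b, rfl⟩ := hy
      exact ⟨a + b, map_add _ _ _⟩
    | single m r =>
      obtain ⟨n, rfl⟩ := hφ.2 m
      exact ⟨MonoidAlgebra.single n r, MonoidAlgebra.mapDomain_single⟩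
  infer_instance

theorem bijective_of_isIso [Nontrivial R] (h : IsIso (dSpec R φ)) : Function.Bijective φ :=
  ⟨injective_of_flat_surjective R φ inferInstance inferInstance, surjective_of_mono R φ inferInstance⟩

end Groth.L25.HomLocus
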