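import Groth.Agent.L25.Cocycle.PointHom
import Groth.Agent.L25.HomLocus.Algebra
import Mathlib.AlgebraicGeometry.Morphisms.Affine
import Mathlib.AlgebraicGeometry.Pullbacks

/-!
# A chart identifies the group with the spectrum of a group algebra
-/

set_option autoImplicit false
universe u

open CategoryTheory CategoryTheory.Limits MonoidalCategory CartesianMonoidalCategory
open AlgebraicGeometry

set_option backward.isDefEq.respectTransparency.types false

noncomputable section

namespace Groth.L25.HomLocus

open Groth.L25.Cocycle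

variable {S : Scheme.{u}} {R : Type u} [CommRing R] {j : Spec (CommRingCat.of R) ⟶ S} {H H' : Over S}
  [GrpObj H] [GrpObj H'] {M N : Type} [CommGroup M] [CommGroup N]

/-- the comparison with the spectrum of the group algebra -/
def κ (e : Chart j H M) (C : Type u) [CommRing C] [Algebra R C] :
    Spec (CommRingCat.of (MonoidAlgebra C M)) ⟶ pullback H.hom (X j C).hom :=
  pullback.lift (e.pt (MonoidAlgebra.of C M)).left
    (Spec.map (CommRingCat.ofHom (algebraMap C (MonoidAlgebra C M)))) (by
      refine (Over.w (e.pt (MonoidAlgebra.of C M))).trans ?_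
      show Spec.map _ ≫ j = Spec.map _ ≫ Spec.map _ ≫ j
      rw [IsScalarTower.algebraMap_eq R C (MonoidAlgebra C M), CommRingCat.ofHom_comp, Spec.map_comp, Category.assoc])

theorem isIso_κ [IsAffineHom H.hom] (e : Chart j H M) (C : Type u) [CommRing C] [Algebra R C] :
    IsIso (κ e C) := by
  let jC := (X j C).hom
  let P : Scheme.{u} := pullback H.hom jC
  have : IsAffineHom (pullback.snd H.hom jC) := MorphismProperty.pullback_snd H.hom jC ‹_›
  have : IsAffine (X j C).left := inferInstanceAs (IsAffine (Spec (CommRingCat.of C)))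
  have : IsAffine P := isAffine_of_isAffineHom (pullback.snd H.hom jC)
  let B : Type u := Γ(P, ⊤)
  let o : Spec (CommRingCat.of B) ⟶ P := P.isoSpec.inv
  obtain ⟨β, hβ⟩ := Spec.map_surjective (o ≫ pullback.snd H.hom jC)
  letI : Algebra C B := β.hom.toAlgebra
  letI : Algebra R B := (β.hom.comp (algebraMap R C)).toAlgebra
  haveI : IsScalarTower R C B := IsScalarTower.of_algebraMap_eq fun _ => rfl
  let g : X j B ⟶ H := Over.homMk (o ≫ pullback.fst H.hom jC) (by
    show (o ≫ pullback.fst H.hom jC) ≫ H.hom = Spec.map (CommRingCat.ofHom (β.hom.comp (algebraMap R C))) ≫ j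
    rw [Category.assoc, pullback.condition, ← Category.assoc, ← hβ, CommRingCat.ofHom_comp, Spec.map_comp,
      Category.assoc]
    rfl)
  obtain ⟨χ, hχ⟩ := (e.bij B).2 g
  let ev : MonoidAlgebra C M →ₐ[C] B := MonoidAlgebra.lift C B M χ
  have hev : ((ev.restrictScalars R : _ →ₐ[R] _) : MonoidAlgebra C M →* B).comp (MonoidAlgebra.of C M) = χ :=
    MonoidHom.ext fun m => MonoidAlgebra.lift_of χ m
  have h1 : Spec.map (CommRingCat.ofHom ev.toRingHom) ≫ κ e C = o := by
    apply pullback.hom_ext
    · rw [Category.assoc]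
      refine (congrArg (_ ≫ ·) (pullback.lift_fst _ _ _)).trans ?_
      have h2 := congrArg (fun m => m.left) ((e.nat (ev.restrictScalars R) (MonoidAlgebra.of C M)).trans
        ((congrArg e.pt hev).trans hχ))
      exact h2
    · rw [Category.assoc]
      refine (congrArg (_ ≫ ·) (pullback.lift_snd _ _ _)).trans ?_
      rw [← Spec.map_comp, ← CommRingCat.ofHom_comp, AlgHom.toRingHom_eq_coe, AlgHom.comp_algebraMap]
      exact hβ
  obtain ⟨ψ, hψ⟩ := Spec.map_surjective (κ e C ≫ P.isoSpec.hom)
  have hψo : Spec.map ψ ≫ o = κ e C := by rw [hψ, Category.assoc, Iso.hom_inv_id, Category.comp_id]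
  have hψβ : β ≫ ψ = CommRingCat.ofHom (algebraMap C (MonoidAlgebra C M)) := by
    apply Spec.map_injective
    rw [Spec.map_comp, hβ, reassoc_of% hψo]
    exact pullback.lift_snd _ _ _
  let ψa : B →ₐ[C] MonoidAlgebra C M :=
    { ψ.hom with commutes' := fun c => congrArg (fun f => f.hom c) hψβ }
  have hψχ : ((ψa.restrictScalars R : _ →ₐ[R] _) : B →* MonoidAlgebra C M).comp χ = MonoidAlgebra.of C M := by
    refine (e.bij _).1 ?_
    rw [← e.nat, hχ]
    apply Over.OverMorphism.ext
    show Spec.map ψ ≫ o ≫ pullback.fst H.hom jC = (e.pt (MonoidAlgebra.of C M)).left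
    rw [reassoc_of% hψo]
    exact pullback.lift_fst _ _ _
  have hψev : ψa.comp ev = AlgHom.id C _ := by
    refine MonoidAlgebra.algHom_ext (fun m => ?_) (AlgHom.ext fun c => (ψa.comp ev).commutes c)
    show ψa (ev (MonoidAlgebra.single m 1)) = MonoidAlgebra.single m 1
    rw [show ev (MonoidAlgebra.single m 1) = χ m from MonoidAlgebra.lift_of χ m]
    exact DFunLike.congr_fun hψχ m
  refine ⟨P.isoSpec.hom ≫ Spec.map (CommRingCat.ofHom ev.toRingHom), ?_, ?_⟩
  · rw [← Category.assoc, ← hψ, ← Spec.map_comp]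
    refine Eq.trans ?_ (Spec.map_id _)
    congr 1
    exact CommRingCat.hom_ext (congrArg (fun f => f.toRingHom) hψev)
  · rw [Category.assoc, h1, Iso.hom_inv_id]

/-- a homomorphism given by a homomorphism of characters, in terms of group algebras -/
theorem κ_map (e : Chart j H M) (e' : Chart j H' N) (u : H ⟶ H') (C : Type u) [CommRing C] [Algebra R C]
    (φ : N →* M) (hφ : e.pt (MonoidAlgebra.of C M) ≫ u = e'.pt ((MonoidAlgebra.of C M).comp φ)) :
    κ e C ≫ ((Over.pullback (X j C).hom).map u).left = dSpec C φ ≫ κ e' C := by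
  let f : MonoidAlgebra C N →ₐ[C] MonoidAlgebra C M := MonoidAlgebra.mapDomainAlgHom C C φ
  have hf : ((f.restrictScalars R : _ →ₐ[R] _) : MonoidAlgebra C N →* MonoidAlgebra C M).comp (MonoidAlgebra.of C N) =
      (MonoidAlgebra.of C M).comp φ := MonoidHom.ext fun n => MonoidAlgebra.mapDomain_single
  apply pullback.hom_ext
  · rw [Category.assoc, Category.assoc, show ((Over.pullback (X j C).hom).map u).left ≫ pullback.fst _ _ =
      pullback.fst _ _ ≫ u.left from pullback.lift_fst _ _ _]
    refine ((Category.assoc _ _ _).symm.trans (congrArg (· ≫ u.left) (pullback.lift_fst _ _ _))).trans ?_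
    refine Eq.trans ?_ (congrArg (dSpec C φ ≫ ·) (pullback.lift_fst _ _ _)).symm
    exact congrArg (fun m => m.left) (hφ.trans ((congrArg e'.pt hf.symm).trans (e'.nat (f.restrictScalars R) _).symm))
  · rw [Category.assoc, Category.assoc]
    refine ((congrArg (κ e C ≫ ·) (Over.w ((Over.pullback (X j C).hom).map u))).trans (pullback.lift_snd _ _ _)).trans ?_
    refine Eq.trans ?_ (congrArg (dSpec C φ ≫ ·) (pullback.lift_snd _ _ _)).symm
    rw [← Spec.map_comp, ← CommRingCat.ofHom_comp]
    congr 2
    exact (f.comp_algebraMap).symm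

/-- properties of a homomorphism read on characters -/
theorem prop_map_iff [IsAffineHom H.hom] [IsAffineHom H'.hom] (P : MorphismProperty Scheme.{u}) [P.RespectsIso]
    (e : Chart j H M) (e' : Chart j H' N) (u : H ⟶ H') (C : Type u) [CommRing C] [Algebra R C] (φ : N →* M)
    (hφ : e.pt (MonoidAlgebra.of C M) ≫ u = e'.pt ((MonoidAlgebra.of C M).comp φ)) :
    P ((Over.pullback (X j C).hom).map u).left ↔ P (dSpec C φ) := by
  have := isIso_κ e C
  have := isIso_κ e' C
  rw [← P.cancel_right_of_respectsIso (dSpec C φ) (κ e' C), ← κ_map e e' u C φ hφ,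
    P.cancel_left_of_respectsIso]

end Groth.L25.HomLocus
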