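import Groth.Agent.L25.Cocycle.LiftHom
import Mathlib.GroupTheory.Finiteness
import Mathlib.RingTheory.LocalRing.ResidueField.Ideal

/-!
# A homomorphism between split groups of multiplicative type is locally given by a homomorphism of characters
-/

set_option autoImplicit false
universe u

open CategoryTheory CategoryTheory.Limits MonoidalCategory CartesianMonoidalCategory
open AlgebraicGeometry

set_option backward.isDefEq.respectTransparency.types false

noncomputable section

namespace Groth.L25.HomLocus

open Groth.L25.Cocycle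

section GrpLike

variable {A : Type u} [CommRing A] {M : Type} [CommGroup M]

theorem exists_coeff_ne_zero {x : MonoidAlgebra A M} (hx : IsGL x) {L : Type u} [CommRing L] [Nontrivial L]
    (g : A →+* L) : ∃ m, g (x.coeff m) ≠ 0 := by
  by_contra h
  push Not at h
  have h1 := congrArg g hx.2
  rw [MonoidAlgebra.lift_apply, Finsupp.sum, map_sum, map_one] at h1
  rw [Finset.sum_eq_zero fun m _ => by
    rw [MonoidHom.one_apply, smul_eq_mul, _root_.mul_one]; exact h m] at h1
  exact zero_ne_one h1

theorem map_eq_single {x : MonoidAlgebra A M} (hx : IsGL x) {C : Type u} [CommRing C] (g : A →+* C) {m : M}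
    (hm : IsUnit (g (x.coeff m))) : MonoidAlgebra.mapRingHom M g x = MonoidAlgebra.single m 1 := by
  classical
  have hc : ∀ k, (MonoidAlgebra.mapRingHom M g x).coeff k = g (x.coeff k) := fun k => by
    simp [MonoidAlgebra.mapRingHom]
  refine MonoidAlgebra.ext (Finsupp.ext fun k => ?_)
  rw [hc, MonoidAlgebra.coeff_single, Finsupp.single_apply]
  have h := congrArg g (hx.coeff_mul m k)
  rw [map_mul] at h
  by_cases hk : m = k
  · subst hk
    rw [if_pos rfl] at h ⊢
    exact hm.mul_left_cancel (h.trans (_root_.mul_one _).symm)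
  · rw [if_neg hk, map_zero] at h
    rw [if_neg hk]
    exact hm.mul_right_eq_zero.1 h

end GrpLike

variable {S : Scheme.{u}} {R : Type u} [CommRing R] {j : Spec (CommRingCat.of R) ⟶ S} {H H' : Over S}
  [GrpObj H] [GrpObj H'] {M N : Type} [CommGroup M] [CommGroup N]

theorem exists_local (e : Chart j H M) (e' : Chart j H' N) (u : H ⟶ H') [IsMonHom u] [Monoid.FG N]
    (p : PrimeSpectrum R) :
    ∃ f : R, f ∉ p.asIdeal ∧ ∃ φ : N →* M, ∀ (C : Type u) [CommRing C] [Algebra R C], IsUnit (algebraMap R C f) →
      e.pt (MonoidAlgebra.of C M) ≫ u = e'.pt ((MonoidAlgebra.of C M).comp φ) := by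
  classical
  let F := PointHom.ofHom (j := j) u (⊥ : Ideal R)
  let ψ := F.char e e'
  let g (C : Type u) [CommRing C] [Algebra R C] : (R ⧸ (⊥ : Ideal R)) →+* C :=
    Ideal.Quotient.lift ⊥ (algebraMap R C) fun r hr => by rw [Ideal.mem_bot.1 hr, map_zero]
  let ψC (C : Type u) [CommRing C] [Algebra R C] : N →* MonoidAlgebra C M :=
    ((MonoidAlgebra.mapRingHom M (g C)) : MonoidAlgebra (R ⧸ (⊥ : Ideal R)) M →* MonoidAlgebra C M).comp ψ
  have key : ∀ (C : Type u) [CommRing C] [Algebra R C],
      e.pt (MonoidAlgebra.of C M) ≫ u = e'.pt (ψC C) := by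
    intro C _ _
    have hC : ∀ r ∈ (⊥ : Ideal R), algebraMap R (MonoidAlgebra C M) r = 0 := fun r hr => by
      rw [Ideal.mem_bot.1 hr, map_zero]
    refine (F.f_eq e e' hC (MonoidAlgebra.of C M)).trans (congrArg e'.pt (MonoidHom.ext fun n => ?_))
    show PointHom.evq hC (MonoidAlgebra.of C M) (ψ n) = MonoidAlgebra.mapRingHom M (g C) (ψ n)
    induction ψ n using MonoidAlgebra.induction_linear with
    | zero => simp
    | add a b ha hb => simp [ha, hb]
    | single a c =>
      obtain ⟨c, rfl⟩ := Ideal.Quotient.mk_surjective c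
      simp [PointHom.evq, MonoidAlgebra.liftNCAlgHom, MonoidAlgebra.liftNCRingHom_single, g,
        Algebra.ofId_apply, IsScalarTower.algebraMap_apply R C (MonoidAlgebra C M),
        MonoidAlgebra.coe_algebraMap, MonoidAlgebra.single_mul_single, MonoidAlgebra.mapRingHom_single]
  let L : Type u := p.asIdeal.ResidueField
  choose m hm using fun n => exists_coeff_ne_zero (F.isGL_char e e' n) (g L)
  have hone : ∀ n, ψC L n = MonoidAlgebra.single (m n) 1 := fun n =>
    map_eq_single (F.isGL_char e e' n) (g L) (isUnit_iff_ne_zero.2 (hm n))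
  have hmul : ∀ a b, m (a * b) = m a * m b := fun a b => by
    have h := map_mul (ψC L) a b
    rw [hone, hone, hone, MonoidAlgebra.single_mul_single, _root_.one_mul] at h
    exact MonoidAlgebra.of_injective (R := L) h
  let φ : N →* M := MonoidHom.mk' m hmul
  obtain ⟨s, hs⟩ := (Monoid.fg_def.1 ‹Monoid.FG N›)
  choose r hr using fun n => Ideal.Quotient.mk_surjective ((ψ n).coeff (m n))
  have hrg : ∀ (C : Type u) [CommRing C] [Algebra R C] (n : N), g C ((ψ n).coeff (m n)) = algebraMap R C (r n) :=
    fun C _ _ n => by rw [← hr]; exact Ideal.Quotient.lift_mk _ _ _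
  refine ⟨∏ n ∈ s, r n, ?_, φ, fun C _ _ hf => ?_⟩
  · rw [← Ideal.algebraMap_residueField_eq_zero, map_prod, Finset.prod_eq_zero_iff]
    rintro ⟨n, -, hn⟩
    exact hm n ((hrg L n).trans hn)
  · refine (key C).trans (congrArg e'.pt ?_)
    refine MonoidHom.eq_of_eqOn_denseM hs fun n hn => ?_
    show MonoidAlgebra.mapRingHom M (g C) (ψ n) = MonoidAlgebra.of C M (φ n)
    rw [map_prod] at hf
    exact map_eq_single (F.isGL_char e e' n) (g C)
      (by show IsUnit (g C ((ψ n).coeff (m n))); rw [hrg]; exact isUnit_of_dvd_unit (Finset.dvd_prod_of_mem (fun k => algebraMap R C (r k)) hn) hf)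

end Groth.L25.HomLocus
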