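import Groth.Agent.L25.HomLocus.ChartIso
import Groth.Agent.L25.HomLocus.LocalMap
import Groth.Agent.L25.FpqcLocal
import Groth.Agent.L25.HomSmooth.Main
import Groth.Agent.L25.NhdEq.EqLocus
import Groth.Agent.L20.SchDesc.Sigma

/-!
# The locus where a homomorphism between groups of multiplicative type has a fibrewise property
-/

set_option autoImplicit false
universe u

open CategoryTheory CategoryTheory.Limits MonoidalCategory CartesianMonoidalCategory
open AlgebraicGeometry

set_option backward.isDefEq.respectTransparency.types false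

noncomputable section

namespace Groth.L25.HomLocus

open Groth.L25.Cocycle

variable {S : Scheme.{u}} {H G : Over S} (u : H ⟶ G) (P : MorphismProperty Scheme.{u}) [P.IsStableUnderBaseChange]

/-- the property of the base change along a morphism to the base -/
def At {T : Scheme.{u}} (g : T ⟶ S) : Prop := P ((Over.pullback g).map u).left

theorem isPullback_map {T : Scheme.{u}} (g : T ⟶ S) :
    IsPullback (pullback.fst H.hom g) ((Over.pullback g).map u).left u.left (pullback.fst G.hom g) := by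
  refine IsPullback.of_bot ?_ (pullback.lift_fst _ _ _).symm (IsPullback.of_hasPullback G.hom g)
  rw [show ((Over.pullback g).map u).left ≫ pullback.snd G.hom g = pullback.snd H.hom g from
    Over.w ((Over.pullback g).map u), Over.w u]
  exact IsPullback.of_hasPullback H.hom g

theorem at_iff {T : Scheme.{u}} (g : T ⟶ S) : At u P g ↔ P (pullback.snd u.left (pullback.fst G.hom g)) := by
  rw [At, ← (isPullback_map u g).isoPullback_hom_snd, P.cancel_left_of_respectsIso]

/-- the comparison of the base changes -/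
def cmap {T T' : Scheme.{u}} (c : T' ⟶ T) {g : T ⟶ S} {g' : T' ⟶ S} (hc : c ≫ g = g') :
    pullback G.hom g' ⟶ pullback G.hom g :=
  pullback.lift (pullback.fst G.hom g') (pullback.snd G.hom g' ≫ c) (by
    rw [pullback.condition, Category.assoc, hc])

theorem At.comp {T T' : Scheme.{u}} (c : T' ⟶ T) {g : T ⟶ S} {g' : T' ⟶ S} (hc : c ≫ g = g') (h : At u P g) :
    At u P g' := by
  rw [at_iff] at h ⊢
  exact FpqcLocal.bc_comp u.left (cmap c hc) (pullback.fst G.hom g) _ (pullback.lift_fst _ _ _) h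

theorem At.descend [P.DescendsAlong (@Surjective ⊓ @Flat ⊓ @QuasiCompact)] {T T' : Scheme.{u}} (c : T' ⟶ T)
    [Flat c] [Surjective c] [QuasiCompact c] {g : T ⟶ S} {g' : T' ⟶ S} (hc : c ≫ g = g') (h : At u P g') :
    At u P g := by
  subst hc
  have sqc : IsPullback (cmap (G := G) c (g := g) rfl) (pullback.snd G.hom (c ≫ g)) (pullback.snd G.hom g) c := by
    refine IsPullback.of_right ?_ (pullback.lift_snd _ _ _) (IsPullback.of_hasPullback G.hom g)
    rw [show cmap (G := G) c (g := g) rfl ≫ pullback.fst G.hom g = pullback.fst G.hom (c ≫ g) from pullback.lift_fst _ _ _]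
    exact IsPullback.of_hasPullback G.hom (c ≫ g)
  have sq : IsPullback (pullback.lift (pullback.fst H.hom (c ≫ g)) (pullback.snd H.hom (c ≫ g) ≫ c)
      (by rw [pullback.condition, Category.assoc]))
      ((Over.pullback (c ≫ g)).map u).left ((Over.pullback g).map u).left (cmap (G := G) c rfl) := by
    refine IsPullback.of_right ?_ ?_ (isPullback_map u g)
    · rw [pullback.lift_fst, show cmap (G := G) c (g := g) rfl ≫ pullback.fst G.hom g = pullback.fst G.hom (c ≫ g) from
        pullback.lift_fst _ _ _]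
      exact isPullback_map u (c ≫ g)
    · apply pullback.hom_ext
      · simp only [Category.assoc, cmap, Over.pullback_map_left, pullback.lift_fst, pullback.lift_fst_assoc]
      · simp only [Category.assoc, cmap, Over.pullback_map_left, pullback.lift_snd, pullback.lift_snd_assoc]
  exact MorphismProperty.of_isPullback_of_descendsAlong (Q := @Surjective ⊓ @Flat ⊓ @QuasiCompact) sq.flip
    (MorphismProperty.of_isPullback sqc.flip ⟨⟨inferInstance, inferInstance⟩, inferInstance⟩) h

theorem At.of_cover [IsZariskiLocalAtTarget P] {T : Scheme.{u}} {g : T ⟶ S}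
    (h : ∀ x : T, ∃ U : T.Opens, x ∈ U ∧ At u P (U.ι ≫ g)) : At u P g := by
  choose U hxU hU using h
  let p := pullback.snd G.hom g
  refine IsZariskiLocalAtTarget.of_iSup_eq_top (fun x => p ⁻¹ᵁ U x) ?_ fun x => ?_
  · exact top_le_iff.1 fun z _ => TopologicalSpace.Opens.mem_iSup.2 ⟨p z, hxU (p z)⟩
  let a := (p ⁻¹ᵁ U x).ι
  have h1 := (at_iff u P _).1 (hU x)
  let c : (p ⁻¹ᵁ U x).toScheme ⟶ pullback G.hom ((U x).ι ≫ g) :=
    pullback.lift (a ≫ pullback.fst G.hom g) (p ∣_ U x) (by
      rw [Category.assoc, pullback.condition, morphismRestrict_ι_assoc])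
  have h2 : P (pullback.snd u.left (a ≫ pullback.fst G.hom g)) :=
    FpqcLocal.bc_comp u.left c (pullback.fst G.hom ((U x).ι ≫ g)) _ (pullback.lift_fst _ _ _) h1
  have h3 : IsPullback ((((Over.pullback g).map u).left ⁻¹ᵁ (p ⁻¹ᵁ U x)).ι ≫ pullback.fst H.hom g)
      (((Over.pullback g).map u).left ∣_ (p ⁻¹ᵁ U x)) u.left (a ≫ pullback.fst G.hom g) :=
    (isPullback_morphismRestrict _ _).flip.paste_horiz (isPullback_map u g)
  rw [← h3.isoPullback_hom_snd, P.cancel_left_of_respectsIso]
  exact h2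

/-- the property of the fibre -/
def Fib (s : S) : Prop := At u P (S.fromSpecResidueField s)

theorem fib_iff [P.DescendsAlong (@Surjective ⊓ @Flat ⊓ @QuasiCompact)] {L : Type u} [Field L]
    (ξ : Spec (CommRingCat.of L) ⟶ S) (s : S) (hs : ξ (IsLocalRing.closedPoint L) = s) :
    Fib u P s ↔ At u P ξ := by
  obtain ⟨g, hg⟩ : ∃ g : Spec (CommRingCat.of L) ⟶ Spec (S.residueField s), g ≫ S.fromSpecResidueField s = ξ := by
    subst hs
    exact ⟨Spec.map _, Scheme.descResidueField_stalkClosedPointTo_fromSpecResidueField L S ξ⟩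
  have : Surjective g := ⟨fun x => ⟨IsLocalRing.closedPoint L,
    Subsingleton.elim (α := PrimeSpectrum (S.residueField s)) _ _⟩⟩
  have : Flat g := by
    obtain ⟨φ, rfl⟩ := Spec.map_surjective g
    rw [HasRingHomProperty.Spec_iff (P := @Flat)]
    letI := φ.hom.toAlgebra
    exact Module.Flat.of_free
  have : IsAffineHom g := isAffineHom_of_isAffine g
  exact ⟨At.comp u P g hg, At.descend u P g hg⟩

/-- the property does not depend on the field and spreads from fields to rings -/
def Spreads : Prop :=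
  ∀ {M N : Type} [CommGroup M] [CommGroup N] (φ : N →* M) (L : Type u) [Field L],
    P (dSpec L φ) → ∀ (R : Type u) [CommRing R], P (dSpec R φ)

variable [P.DescendsAlong (@Surjective ⊓ @Flat ⊓ @QuasiCompact)] [IsZariskiLocalAtTarget P] [GrpObj H] [GrpObj G]
  [IsMonHom u] [IsAffineHom H.hom] [IsAffineHom G.hom]

omit [IsZariskiLocalAtTarget P] in
/-- around a point of a chart the property is constant -/
theorem exists_nhd (hP : Spreads P) {R : Type u} [CommRing R] {j : Spec (CommRingCat.of R) ⟶ S} {M N : Type}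
    [CommGroup M] [CommGroup N] [Monoid.FG N] (e : Chart j H M) (e' : Chart j G N) (z : Spec (CommRingCat.of R)) :
    ∃ V : (Spec (CommRingCat.of R)).Opens, z ∈ V ∧ (∀ w ∈ V, Fib u P (j w) ↔ Fib u P (j z)) ∧
      (Fib u P (j z) → At u P (V.ι ≫ j)) := by
  let zz : PrimeSpectrum R := z
  obtain ⟨f, hf, φ, hφ⟩ := exists_local e e' u zz
  have hC : ∀ (C : Type u) [CommRing C] [Algebra R C], IsUnit (algebraMap R C f) →
      (At u P (X j C).hom ↔ P (dSpec C φ)) := fun C _ _ hC => prop_map_iff P e e' u C φ (hφ C hC)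
  have hfib : ∀ w : PrimeSpectrum R, f ∉ w.asIdeal →
      (Fib u P (j w) ↔ P (dSpec w.asIdeal.ResidueField φ)) := by
    intro w hw
    refine Iff.trans (fib_iff u P (X j w.asIdeal.ResidueField).hom _ ?_)
      (hC _ (isUnit_iff_ne_zero.2 fun h => hw (Ideal.algebraMap_residueField_eq_zero.1 h)))
    show j (Spec.map (CommRingCat.ofHom (algebraMap R w.asIdeal.ResidueField)) (IsLocalRing.closedPoint _)) = j w
    congr 1
    refine PrimeSpectrum.ext ?_
    show (IsLocalRing.maximalIdeal w.asIdeal.ResidueField).comap (algebraMap R _) = w.asIdeal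
    rw [IsLocalRing.maximalIdeal_eq_bot]
    exact Ideal.ker_algebraMap_residueField w.asIdeal
  let C : Type u := Localization.Away f
  let o : Spec (CommRingCat.of C) ⟶ Spec (CommRingCat.of R) := Spec.map (CommRingCat.ofHom (algebraMap R C))
  have : IsOpenImmersion o := IsOpenImmersion.of_isLocalization f
  have hr : ∀ w : Spec (CommRingCat.of R), w ∈ o.opensRange ↔ f ∉ (w : PrimeSpectrum R).asIdeal := fun w =>
    Set.ext_iff.1 (PrimeSpectrum.localization_away_comap_range C f) w
  refine ⟨o.opensRange, (hr z).2 hf, fun w hw => ?_, fun hz => ?_⟩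
  · rw [hfib w ((hr w).1 hw), hfib zz hf]
    exact ⟨fun h => hP φ _ h _, fun h => hP φ _ h _⟩
  · have h1 : At u P (X j C).hom := (hC C (IsLocalization.Away.algebraMap_isUnit f)).2 (hP φ _ ((hfib zz hf).1 hz) C)
    refine At.comp u P o.isoOpensRange.inv ?_ h1
    show o.isoOpensRange.inv ≫ o ≫ j = o.opensRange.ι ≫ j
    rw [← Category.assoc, o.isoOpensRange_inv_comp]

variable (hH : TwC.Locally S TwC.Topology.fpqc (fun S' f => ∃ (M : Type) (_ : AddCommGroup M),
      Nonempty (Grp.mk (Red.bc f H) ≅ Grp.mk (Red.DS S' M))))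
  (hG : SGA3x.IsMultTypeFT G) (hP : Spreads P)

include hH hG hP in
theorem clopen_affine {R : Type u} [CommRing R] (j : Spec (CommRingCat.of R) ⟶ S) :
    IsClopen {x : Spec (CommRingCat.of R) | Fib u P (j x)} ∧ ((∀ x, Fib u P (j x)) → At u P j) := by
  obtain ⟨F⟩ := exists_family (j := j) hH
  choose F' hF' using fun i => NhdEq.exists_family_ft (j := Spec.map (CommRingCat.ofHom (F.θ i)) ≫ j) hG
  let κ' := Σ i, (F' i).idx
  let A : κ' → Scheme.{u} := fun x => Spec (CommRingCat.of ((F' x.1).C x.2))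
  let a : ∀ x : κ', A x ⟶ Spec (CommRingCat.of R) := fun x =>
    Spec.map (CommRingCat.ofHom ((F' x.1).θ x.2)) ≫ Spec.map (CommRingCat.ofHom (F.θ x.1))
  let q : ∐ A ⟶ Spec (CommRingCat.of R) := Sigma.desc a
  have : Flat q := IsZariskiLocalAtSource.sigmaDesc fun x => by
    have := F.flat x.1
    have := (F' x.1).flat x.2
    infer_instance
  have : Surjective q := ⟨fun x => by
    obtain ⟨i, y, rfl⟩ := F.surj x
    obtain ⟨k, z, rfl⟩ := (F' i).surj y
    refine ⟨Sigma.ι A ⟨i, k⟩ z, ?_⟩
    rw [← Scheme.Hom.comp_apply, Sigma.ι_desc, Scheme.Hom.comp_apply]⟩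
  have : Finite κ' := inferInstance
  have : CompactSpace ↥(∐ A) := inferInstance
  have : QuasiCompact q := (quasiCompact_iff_compactSpace q).2 inferInstance
  let E : Set (Spec (CommRingCat.of R)) := {x | Fib u P (j x)}
  have key : ∀ y : ↥(∐ A), ∃ V : (∐ A).Opens, y ∈ V ∧ (∀ w ∈ V, q w ∈ E ↔ q y ∈ E) ∧
      (q y ∈ E → At u P (V.ι ≫ q ≫ j)) := by
    intro y
    obtain ⟨x, z, rfl⟩ := Groth.L20.SchDesc.exists_sigmaι_eq y
    have := hF' x.1 x.2
    let jx : A x ⟶ S := a x ≫ j
    have hj : Spec.map (CommRingCat.ofHom ((F' x.1).θ x.2)) ≫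
        (Spec.map (CommRingCat.ofHom (F.θ x.1)) ≫ j) = jx := (Category.assoc _ _ _).symm
    obtain ⟨V, hzV, hV, hVP⟩ := exists_nhd u P hP ((F.chart x.1).restrict ((F' x.1).θ x.2) (j' := jx) hj)
      (((F' x.1).chart x.2).restrict (RingHom.id _) (j' := jx)
        (by rw [CommRingCat.ofHom_id, Spec.map_id, Category.id_comp]; exact hj)) z
    have hq : ∀ w, j (q (Sigma.ι A x w)) = jx w := fun w => by
      rw [show jx = (Sigma.ι A x ≫ q) ≫ j by rw [Sigma.ι_desc]]
      rfl
    refine ⟨Sigma.ι A x ''ᵁ V, ⟨z, hzV, rfl⟩, ?_, fun h => ?_⟩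
    · rintro _ ⟨w, hw, rfl⟩
      show Fib u P (j (q _)) ↔ Fib u P (j (q _))
      exact (iff_of_eq (congrArg (Fib u P) (hq w))).trans
        ((hV w hw).trans (iff_of_eq (congrArg (Fib u P) (hq z)).symm))
    · have h1 : At u P (V.ι ≫ jx) := hVP (hq z ▸ h)
      refine At.comp u P ((Sigma.ι A x).isoImage V).inv ?_ h1
      rw [show jx = Sigma.ι A x ≫ q ≫ j by simp [jx, q], ← Category.assoc V.ι, ← Category.assoc, Scheme.Hom.isoImage_inv_ι]
  have hEo : IsOpen E ∧ IsOpen Eᶜ := by
    constructor <;>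
    · rw [← (Flat.isQuotientMap_of_surjective q).isOpen_preimage]
      refine isOpen_iff_forall_mem_open.2 fun y hy => ?_
      obtain ⟨V, hyV, hV, -⟩ := key y
      refine ⟨V, fun w hw => ?_, V.2, hyV⟩
      simp only [Set.mem_preimage, Set.mem_compl_iff] at hy ⊢
      rw [hV w hw]
      exact hy
  refine ⟨⟨⟨hEo.2⟩, hEo.1⟩, fun hall => ?_⟩
  refine At.descend u P q (g' := q ≫ j) rfl (At.of_cover u P fun y => ?_)
  obtain ⟨V, hyV, -, hV⟩ := key y
  exact ⟨V, hyV, hV (hall (q y))⟩

include hH hG hP in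
/-- the locus is open and closed and the property holds over it -/
theorem exists_clopen :
    ∃ U : S.Opens, IsClosed (U : Set S) ∧ (∀ s : S, s ∈ U ↔ Fib u P s) ∧ At u P U.ι := by
  let E : Set S := {s | Fib u P s}
  have key : IsOpen E ∧ IsOpen Eᶜ := by
    constructor <;>
    · refine isOpen_iff_forall_mem_open.2 fun s hs => ?_
      obtain ⟨_, ⟨V, hV, rfl⟩, hsV, -⟩ := S.isBasis_affineOpens.exists_subset_of_mem_open
        (Set.mem_univ s) isOpen_univ
      obtain ⟨z, rfl⟩ := hV.range_fromSpec.ge hsV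
      obtain ⟨hE, -⟩ := clopen_affine u P hH hG hP hV.fromSpec
      refine ⟨_, Set.image_preimage_subset hV.fromSpec _,
        hV.fromSpec.isOpenEmbedding.isOpenMap _ ?_, ⟨z, hs, rfl⟩⟩
      first | exact hE.isOpen | exact hE.compl.isOpen
  let U : S.Opens := ⟨E, key.1⟩
  refine ⟨U, ⟨key.2⟩, fun s => Iff.rfl, At.of_cover u P fun x => ?_⟩
  obtain ⟨_, ⟨V, hV, rfl⟩, hxV, hVU⟩ := S.isBasis_affineOpens.exists_subset_of_mem_open x.2 U.2
  have h1 := (clopen_affine u P hH hG hP hV.fromSpec).2 fun z => hVU (hV.range_fromSpec.le ⟨z, rfl⟩)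
  let D : U.toScheme.Opens := U.ι ⁻¹ᵁ V
  have hr : Set.range (D.ι ≫ U.ι) ⊆ Set.range hV.fromSpec := by
    rw [hV.range_fromSpec]
    rintro _ ⟨w, rfl⟩
    exact w.2
  exact ⟨D, hxV, At.comp u P (IsOpenImmersion.lift hV.fromSpec (D.ι ≫ U.ι) hr) (IsOpenImmersion.lift_fac _ _ _) h1⟩

end Groth.L25.HomLocus
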