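import Groth.Agent.L25.HomLocus.Main
import Groth.Agent.L25.Actions
import Groth.Agent.L23.Descent
import Groth.Agent.L25.Locus.Transporter

/-!
# Monomorphism, isomorphism and faithfully flat loci of homomorphisms of groups of multiplicative type
-/

set_option autoImplicit false
universe u

open CategoryTheory CategoryTheory.Limits MonoidalCategory CartesianMonoidalCategory
open AlgebraicGeometry

set_option backward.isDefEq.respectTransparency.types false

noncomputable section

namespace Groth.L25.HomLocus

theorem spreads_mono : Spreads (MorphismProperty.monomorphisms Scheme.{u}) :=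
  fun φ L _ h R _ => mono_dSpec R φ (surjective_of_mono L φ h)

theorem spreads_iso : Spreads (MorphismProperty.isomorphisms Scheme.{u}) :=
  fun φ L _ h R _ => isIso_dSpec R φ (bijective_of_isIso L φ h)

theorem spreads_ff : Spreads ((@Flat ⊓ @Surjective : MorphismProperty Scheme.{u})) :=
  fun φ L _ h R _ => flat_surjective_dSpec R φ (injective_of_flat_surjective L φ h.1 h.2)

variable {S : Scheme.{u}} {H G : Over S} [GrpObj H] [GrpObj G] (u : H ⟶ G) [IsMonHom u]
  (hH : TwC.Locally S TwC.Topology.fpqc (fun S' f => ∃ (M : Type) (_ : AddCommGroup M),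
      Nonempty (Grp.mk (Red.bc f H) ≅ Grp.mk (Red.DS S' M))))
  (hG : SGA3x.IsMultTypeFT G)

include hH hG in
theorem exists_mono_locus : ∃ U : S.Opens, IsClosed (U : Set S) ∧
    (∀ s : S, s ∈ U ↔ Mono ((Over.pullback (S.fromSpecResidueField s)).map u).left) ∧
    Mono ((Over.pullback U.ι).map u).left := by
  have := HomSmooth.isAffineHom_of_locally hH
  have := HomSmooth.isAffineHom_of_locally (Locus.locally_of_multTypeFT hG)
  exact exists_clopen u (MorphismProperty.monomorphisms Scheme.{u}) hH hG spreads_mono

include hH hG in
theorem exists_iso_locus : ∃ U : S.Opens, IsClosed (U : Set S) ∧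
    (∀ s : S, s ∈ U ↔ IsIso ((Over.pullback (S.fromSpecResidueField s)).map u).left) ∧
    IsIso ((Over.pullback U.ι).map u).left := by
  have := HomSmooth.isAffineHom_of_locally hH
  have := HomSmooth.isAffineHom_of_locally (Locus.locally_of_multTypeFT hG)
  exact exists_clopen u (MorphismProperty.isomorphisms Scheme.{u}) hH hG spreads_iso

include hH hG in
theorem exists_ff_locus : ∃ U : S.Opens, IsClosed (U : Set S) ∧
    (∀ s : S, s ∈ U ↔ (Flat ((Over.pullback (S.fromSpecResidueField s)).map u).left ∧
      Surjective ((Over.pullback (S.fromSpecResidueField s)).map u).left)) ∧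
    (Flat ((Over.pullback U.ι).map u).left ∧ Surjective ((Over.pullback U.ι).map u).left) := by
  have := HomSmooth.isAffineHom_of_locally hH
  have := HomSmooth.isAffineHom_of_locally (Locus.locally_of_multTypeFT hG)
  have := Actions.descendsAlong_flat_fpqc.{u}
  exact exists_clopen u ((@Flat ⊓ @Surjective : MorphismProperty Scheme.{u})) hH hG spreads_ff

end Groth.L25.HomLocus
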